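import Cfsg.Agent.EqLemmas

/-!
Counting in Steiner systems. Main results (namespace `Cfsg.Agent.SteinerCount`):
* `card_containing_mul`: blocks through a fixed set `T`, times `(k-|T|).choose (t-|T|)`, is `(v-|T|).choose (t-|T|)`;
* `sum_choose_inter`: the sum over blocks of `|b ∩ Y|.choose i`.
-/

set_option autoImplicit false

namespace Cfsg.Agent.SteinerCount

open Finset

variable {α : Type*} [Fintype α] [DecidableEq α]

/-- The blocks as a finset. -/
noncomputable def blocks (B : Set (Finset α)) : Finset (Finset α) := B.toFinite.toFinset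

theorem mem_blocks {B : Set (Finset α)} {b : Finset α} : b ∈ blocks B ↔ b ∈ B := Set.Finite.mem_toFinset _

theorem card_supersets {A T : Finset α} (hT : T ⊆ A) {t : ℕ} (ht : T.card ≤ t) :
    ((A.powersetCard t).filter (T ⊆ ·)).card = (A.card - T.card).choose (t - T.card) := by
  rw [← card_sdiff_of_subset hT, ← card_powersetCard]
  refine card_bij' (fun S _ => S \ T) (fun S _ => S ∪ T) ?_ ?_ ?_ ?_
  · intro S hS
    simp only [mem_filter, mem_powersetCard] at hS ⊢
    exact ⟨sdiff_subset_sdiff hS.1.1 subset_rfl, by rw [card_sdiff_of_subset hS.2, hS.1.2]⟩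
  · intro S hS
    simp only [mem_filter, mem_powersetCard] at hS ⊢
    have hd : Disjoint S T := disjoint_left.2 fun x hx => (mem_sdiff.1 (hS.1 hx)).2
    refine ⟨⟨union_subset (hS.1.trans sdiff_subset) hT, ?_⟩, subset_union_right⟩
    rw [card_union_of_disjoint hd, hS.2]; omega
  · intro S hS
    simp only [mem_filter] at hS
    exact sdiff_union_of_subset hS.2
  · intro S hS
    simp only [mem_powersetCard] at hS
    exact union_sdiff_cancel_right (disjoint_left.2 fun x hx => (mem_sdiff.1 (hS.1 hx)).2)

theorem card_containing_mul {B : Set (Finset α)} {t k : ℕ} (hB : Cfsg.IsSteinerSystem t k B)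
    {T : Finset α} (ht : T.card ≤ t) :
    ((blocks B).filter (T ⊆ ·)).card * (k - T.card).choose (t - T.card) =
      (Fintype.card α - T.card).choose (t - T.card) := by
  classical
  rw [← card_univ, ← card_supersets (subset_univ T) ht]
  rw [card_eq_sum_card_fiberwise (t := (blocks B).filter (T ⊆ ·))
    (f := fun S => if h : S.card = t then (hB.2 S h).choose else ∅) (s := (univ.powersetCard t).filter (T ⊆ ·))]
  · rw [← smul_eq_mul, ← sum_const]
    refine sum_congr rfl fun b hb => ?_
    simp only [mem_filter, mem_blocks] at hb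
    have hc := card_supersets hb.2 ht
    rw [hB.1 b hb.1] at hc
    rw [← hc]
    congr 1
    ext S
    simp only [mem_filter, mem_powersetCard, subset_univ, true_and]
    constructor
    · rintro ⟨⟨hSb, hSc⟩, hTS⟩
      refine ⟨⟨hSc, hTS⟩, ?_⟩
      rw [dif_pos hSc]
      exact ((hB.2 S hSc).choose_spec.2 b ⟨hb.1, hSb⟩).symm
    · rintro ⟨⟨hSc, hTS⟩, hf⟩
      rw [dif_pos hSc] at hf
      exact ⟨⟨hf ▸ (hB.2 S hSc).choose_spec.1.2, hSc⟩, hTS⟩
  · intro S hS
    simp only [coe_filter, Set.mem_ofPred_eq, mem_powersetCard, subset_univ, true_and] at hS ⊢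
    rw [dif_pos hS.1, mem_blocks]
    exact ⟨(hB.2 S hS.1).choose_spec.1.1, hS.2.trans (hB.2 S hS.1).choose_spec.1.2⟩

theorem sum_choose_inter (B : Set (Finset α)) (Y : Finset α) (i n : ℕ)
    (hn : ∀ Z ∈ Y.powersetCard i, ((blocks B).filter (Z ⊆ ·)).card = n) :
    ∑ b ∈ blocks B, (b ∩ Y).card.choose i = Y.card.choose i * n := by
  have h : ∀ b : Finset α, (b ∩ Y).card.choose i = ((Y.powersetCard i).filter (· ⊆ b)).card := by
    intro b
    rw [← card_powersetCard]
    congr 1
    ext Z
    simp only [mem_powersetCard, mem_filter, subset_inter_iff]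
    tauto
  simp only [h, card_filter]
  rw [sum_comm, ← card_powersetCard, ← smul_eq_mul, ← sum_const]
  refine sum_congr rfl fun Z hZ => ?_
  rw [← card_filter]
  exact hn Z hZ

theorem card_inter_counts {B : Set (Finset α)} (Y : Finset α) (j : ℕ) :
    {b : Finset α | b ∈ B ∧ (b ∩ Y).card = j}.ncard = ((blocks B).filter fun b => (b ∩ Y).card = j).card := by
  rw [← Set.ncard_coe_finset]
  congr 1
  ext b
  simp [mem_blocks]

end Cfsg.Agent.SteinerCount
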