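import Cfsg.Agent.Lib.SteinerCount.Basic

/-!
# Counting in a Steiner system S(3, 6, 22)

* `lam`, `card_blocks`, `card_inter`, `card_disj_one`, `card_disj_two`, `card_point_disj`
-/

set_option autoImplicit false

namespace Cfsg.Agent.SteinerCount.Sys22

open Finset

variable {α : Type*} [Fintype α] [DecidableEq α] {B : Set (Finset α)}

section

variable (hα : Fintype.card α = 22) (hB : Cfsg.IsSteinerSystem 3 6 B)
include hα hB

theorem lam {T : Finset α} {n : ℕ} (h : T.card ≤ 3)
    (hn : n * (6 - T.card).choose (3 - T.card) = (22 - T.card).choose (3 - T.card)) :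
    ((blocks B).filter (T ⊆ ·)).card = n := by
  have := card_containing_mul hB h
  rw [hα] at this
  exact Nat.eq_of_mul_eq_mul_right (Nat.choose_pos (by omega)) (this.trans hn.symm)

theorem card_blocks : (blocks B).card = 77 := by
  have h := lam hα hB (T := ∅) (n := 77) (by simp) (by simp; decide)
  rwa [Finset.filter_true_of_mem (fun b _ => Finset.empty_subset b)] at h

theorem lam_one (a : α) : ((blocks B).filter fun b => a ∈ b).card = 21 := by
  have h := lam hα hB (T := {a}) (n := 21) (by simp) (by simp; decide)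
  simpa only [Finset.singleton_subset_iff] using h

theorem lam_two {a a' : α} (h : a ≠ a') :
    ((blocks B).filter fun b => a ∈ b ∧ a' ∈ b).card = 5 := by
  have h' := lam hα hB (T := {a, a'}) (n := 5) (by rw [card_pair h]; norm_num)
    (by rw [card_pair h]; decide)
  simpa only [Finset.insert_subset_iff, Finset.singleton_subset_iff] using h'

/-- The moments of the intersection sizes with a set. -/
theorem moments (Y : Finset α) :
    ∑ b ∈ blocks B, (b ∩ Y).card.choose 1 = Y.card * 21 ∧
    ∑ b ∈ blocks B, (b ∩ Y).card.choose 2 = Y.card.choose 2 * 5 ∧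
    ∑ b ∈ blocks B, (b ∩ Y).card.choose 3 = Y.card.choose 3 := by
  refine ⟨?_, ?_, ?_⟩
  · rw [sum_choose_inter B Y 1 21 fun Z hZ => lam hα hB (by rw [(mem_powersetCard.1 hZ).2]; norm_num)
      (by rw [(mem_powersetCard.1 hZ).2]; decide), Nat.choose_one_right]
  · exact sum_choose_inter B Y 2 5 fun Z hZ => lam hα hB (by rw [(mem_powersetCard.1 hZ).2]; norm_num)
      (by rw [(mem_powersetCard.1 hZ).2]; decide)
  · rw [sum_choose_inter B Y 3 1 fun Z hZ => lam hα hB (by rw [(mem_powersetCard.1 hZ).2])
      (by rw [(mem_powersetCard.1 hZ).2]; decide), mul_one]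

/-- Two blocks meet in 0 or 2 points. -/
theorem card_inter {b c : Finset α} (hb : b ∈ blocks B) (hc : c ∈ blocks B) (hne : c ≠ b) :
    (c ∩ b).card = 0 ∨ (c ∩ b).card = 2 := by
  obtain ⟨m1, m2, m3⟩ := moments hα hB b
  have hb6 : b.card = 6 := hB.1 b (mem_blocks.1 hb)
  rw [hb6] at m1 m2 m3
  rw [← add_sum_erase _ _ hb, inter_self, hb6] at m1 m2 m3
  simp only [show Nat.choose 6 1 = 6 from rfl, show Nat.choose 6 2 = 15 from rfl,
    show Nat.choose 6 3 = 20 from rfl] at m1 m2 m3
  have h3 : ∀ d ∈ (blocks B).erase b, (d ∩ b).card ≤ 2 := by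
    intro d hd
    have h0 : (d ∩ b).card.choose 3 = 0 :=
      (Finset.sum_eq_zero_iff.1 (show ∑ x ∈ (blocks B).erase b, (x ∩ b).card.choose 3 = 0 by omega))
        d hd
    rw [Nat.choose_eq_zero_iff] at h0
    omega
  have hz : ∑ d ∈ (blocks B).erase b, ((d ∩ b).card : ℤ) * (2 - (d ∩ b).card) = 0 := by
    have e : ∀ d ∈ (blocks B).erase b, ((d ∩ b).card : ℤ) * (2 - (d ∩ b).card) =
        ((d ∩ b).card.choose 1 : ℕ) - 2 * ((d ∩ b).card.choose 2 : ℕ) := by
      intro d hd
      have := h3 d hd
      generalize (d ∩ b).card = n at *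
      interval_cases n <;> rfl
    rw [Finset.sum_congr rfl e, Finset.sum_sub_distrib, ← Finset.mul_sum, ← Nat.cast_sum,
      ← Nat.cast_sum]
    omega
  have hd := mem_erase.2 ⟨hne, hc⟩
  have h0 := (Finset.sum_eq_zero_iff_of_nonneg fun d hd => by
    have := h3 d hd; nlinarith).1 hz c hd
  rcases mul_eq_zero.1 h0 with h | h <;> omega

theorem card_disj_one {b : Finset α} (hb : b ∈ blocks B) :
    ((blocks B).filter fun c => Disjoint b c).card = 16 := by
  obtain ⟨m1, -, -⟩ := moments hα hB b
  have hb6 : b.card = 6 := hB.1 b (mem_blocks.1 hb)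
  rw [hb6, ← add_sum_erase _ _ hb, inter_self, hb6] at m1
  simp only [Nat.choose_one_right] at m1
  have e : (blocks B).filter (fun c => Disjoint b c) =
      ((blocks B).erase b).filter fun c => (c ∩ b).card = 0 := by
    ext c
    simp only [mem_filter, mem_erase, card_eq_zero, ← disjoint_iff_inter_eq_empty, disjoint_comm]
    refine ⟨fun h => ⟨⟨fun e => ?_, h.1⟩, h.2⟩, fun h => ⟨h.1.2, h.2⟩⟩
    rw [e, disjoint_self_iff_empty] at h
    rw [h.2] at hb6
    simp at hb6
  rw [e]
  have h : ∑ c ∈ (blocks B).erase b, (c ∩ b).card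
      = 2 * (((blocks B).erase b).filter fun c => ¬(c ∩ b).card = 0).card := by
    rw [card_filter, mul_sum]
    refine sum_congr rfl fun c hc => ?_
    rcases card_inter hα hB hb (mem_of_mem_erase hc) (ne_of_mem_erase hc) with h | h <;> simp [h]
  have := card_filter_add_card_filter_not (s := (blocks B).erase b) (fun c => (c ∩ b).card = 0)
  rw [card_erase_of_mem hb, card_blocks hα hB] at this
  omega

theorem card_disj_two {b c : Finset α} (hb : b ∈ blocks B) (hc : c ∈ blocks B) (hne : b ≠ c) :
    ((blocks B).filter fun d => Disjoint b d ∧ Disjoint c d).card =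
      if Disjoint b c then 0 else 4 := by
  have hb6 : b.card = 6 := hB.1 b (mem_blocks.1 hb)
  have hc6 : c.card = 6 := hB.1 c (mem_blocks.1 hc)
  obtain ⟨m1, m2, m3⟩ := moments hα hB (b ∪ c)
  have hi := card_inter hα hB hc hb hne
  have hu := card_union_add_card_inter b c
  have e : ((blocks B).filter fun d => Disjoint b d ∧ Disjoint c d).card =
      ((blocks B).filter fun d => (d ∩ (b ∪ c)).card = 0).card := by
    congr 1
    ext d
    simp only [mem_filter, card_eq_zero, ← disjoint_iff_inter_eq_empty, disjoint_union_right,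
      disjoint_comm]
  rw [e, card_filter]
  -- sizes of intersections with the union
  have cases' : ∀ d ∈ blocks B, (d = b ∨ d = c) ∨ ((d ∩ b).card = 0 ∨ (d ∩ b).card = 2) ∧
      ((d ∩ c).card = 0 ∨ (d ∩ c).card = 2) := by
    intro d hd
    by_cases h1 : d = b
    · exact Or.inl (Or.inl h1)
    by_cases h2 : d = c
    · exact Or.inl (Or.inr h2)
    exact Or.inr ⟨card_inter hα hB hb hd h1, card_inter hα hB hc hd h2⟩
  have split' : ∀ d : Finset α,
      (d ∩ (b ∪ c)).card + (d ∩ (b ∩ c)).card = (d ∩ b).card + (d ∩ c).card := by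
    intro d
    have := card_union_add_card_inter (d ∩ b) (d ∩ c)
    rwa [← inter_union_distrib_left, ← inter_inter_distrib_left] at this
  by_cases hd : Disjoint b c
  · rw [if_pos hd]
    have h0 : (b ∩ c).card = 0 := by rw [card_eq_zero, ← disjoint_iff_inter_eq_empty]; exact hd
    have key : ∀ d ∈ blocks B, (48 : ℤ) * (if (d ∩ (b ∪ c)).card = 0 then 1 else 0 : ℕ) =
        48 - 33 * ((d ∩ (b ∪ c)).card.choose 1 : ℕ) + 18 * ((d ∩ (b ∪ c)).card.choose 2 : ℕ)
          - 6 * ((d ∩ (b ∪ c)).card.choose 3 : ℕ) := by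
      intro d hd
      have hs := split' d
      have hz : (d ∩ (b ∩ c)).card = 0 := by
        have := card_le_card (inter_subset_right : d ∩ (b ∩ c) ⊆ b ∩ c); omega
      rcases cases' d hd with (rfl | rfl) | ⟨h1 | h1, h2 | h2⟩
      · rw [inter_self, hb6, show (d ∩ c).card = 0 from h0] at hs
        rw [show (d ∩ (d ∪ c)).card = 6 by omega]; rfl
      · rw [inter_self, hc6, inter_comm d b, h0] at hs
        rw [show (d ∩ (b ∪ d)).card = 6 by omega]; rfl
      all_goals
        rw [h1, h2] at hs
        rw [show (d ∩ (b ∪ c)).card = _ - (d ∩ (b ∩ c)).card from Nat.eq_sub_of_add_eq hs, hz]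
        rfl
    have := Finset.sum_congr rfl key
    simp only [Finset.sum_sub_distrib, Finset.sum_add_distrib, Finset.sum_const, nsmul_eq_mul,
      ← Finset.mul_sum, ← Nat.cast_sum, m1, m2, m3, card_blocks hα hB] at this
    rw [show (b ∪ c).card = 12 by omega] at this
    norm_num [Nat.choose] at this ⊢
    omega
  · rw [if_neg hd]
    have h2 : (b ∩ c).card = 2 := by
      rcases hi with h | h
      · exact absurd (disjoint_iff_inter_eq_empty.2 (card_eq_zero.1 h)) hd
      · exact h
    have key : ∀ d ∈ blocks B, (4 : ℤ) * (if (d ∩ (b ∪ c)).card = 0 then 1 else 0 : ℕ) =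
        (4 - 3 * ((d ∩ (b ∪ c)).card.choose 1 : ℕ) + 2 * ((d ∩ (b ∪ c)).card.choose 2 : ℕ)
          - ((d ∩ (b ∪ c)).card.choose 3 : ℕ)) + 4 * ((if d = b then 1 else 0) + if d = c then 1 else 0) := by
      intro d hd
      have hs := split' d
      rcases cases' d hd with (rfl | rfl) | ⟨h1, h1'⟩
      · rw [← inter_assoc, inter_self, hb6, h2] at hs
        rw [show (d ∩ (d ∪ c)).card = 6 by omega, if_pos rfl, if_neg (fun h => hne h)]; rfl
      · rw [inter_comm b d, ← inter_assoc, inter_self, hc6, inter_comm d b, h2] at hs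
        rw [show (d ∩ (b ∪ d)).card = 6 by omega, if_pos rfl,
          if_neg (show ¬d = b from fun h => hne h.symm)]; rfl
      · have hdb : d ≠ b := by rintro rfl; rw [inter_self] at h1; omega
        have hdc : d ≠ c := by rintro rfl; rw [inter_self] at h1'; omega
        rw [if_neg hdb, if_neg hdc]
        have l1 : (d ∩ (b ∩ c)).card ≤ (d ∩ b).card :=
          card_le_card (inter_subset_inter le_rfl inter_subset_left)
        have l2 : (d ∩ (b ∩ c)).card ≤ (d ∩ c).card :=
          card_le_card (inter_subset_inter le_rfl inter_subset_right)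
        rcases h1 with h1 | h1 <;> rcases h1' with h1' | h1' <;> rw [h1] at hs l1 <;>
          rw [h1'] at hs l2
        all_goals
          rw [show (d ∩ (b ∪ c)).card = _ - (d ∩ (b ∩ c)).card from Nat.eq_sub_of_add_eq hs]
          generalize (d ∩ (b ∩ c)).card = k at *
          interval_cases k <;> rfl
    have := Finset.sum_congr rfl key
    simp only [Finset.sum_sub_distrib, Finset.sum_add_distrib, Finset.sum_const, nsmul_eq_mul,
      ← Finset.mul_sum, ← Nat.cast_sum, m1, m2, m3, card_blocks hα hB, Finset.sum_ite_eq', hb,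
      hc, if_true] at this
    rw [show (b ∪ c).card = 10 by omega] at this
    norm_num [Nat.choose] at this ⊢
    omega

theorem card_point_disj {a : α} {b : Finset α} (hb : b ∈ blocks B) (ha : a ∉ b) :
    ((blocks B).filter fun c => a ∈ c ∧ Disjoint b c).card = 6 := by
  have hb6 : b.card = 6 := hB.1 b (mem_blocks.1 hb)
  have h1 : ∑ c ∈ (blocks B).filter (fun c => a ∈ c), (c ∩ b).card = 30 := by
    calc ∑ c ∈ (blocks B).filter (fun c => a ∈ c), (c ∩ b).card
        = ∑ c ∈ (blocks B).filter (fun c => a ∈ c), ∑ p ∈ b, if p ∈ c then 1 else 0 := by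
          refine sum_congr rfl fun c _ => ?_
          rw [← card_filter, inter_comm, filter_mem_eq_inter]
      _ = ∑ p ∈ b, 5 := by
          rw [sum_comm]
          refine sum_congr rfl fun p hp => ?_
          rw [← card_filter, filter_filter]
          exact lam_two hα hB fun e => ha (e ▸ hp)
      _ = 30 := by rw [sum_const, hb6]; rfl
  have h2 : ∑ c ∈ (blocks B).filter (fun c => a ∈ c), (c ∩ b).card =
      2 * (((blocks B).filter fun c => a ∈ c).filter fun c => ¬Disjoint b c).card := by
    rw [card_filter _ ((blocks B).filter _), mul_sum]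
    refine sum_congr rfl fun c hc => ?_
    obtain ⟨hc, hac⟩ := mem_filter.1 hc
    rcases card_inter hα hB hb hc (fun e => ha (e ▸ hac)) with h | h <;>
      simp [disjoint_iff_inter_eq_empty, ← card_eq_zero, inter_comm b c, h]
  have h3 := card_filter_add_card_filter_not
    (s := (blocks B).filter fun c => a ∈ c) (fun c => Disjoint b c)
  rw [lam_one hα hB a] at h3
  have e : ((blocks B).filter fun c => a ∈ c ∧ Disjoint b c)
      = ((blocks B).filter fun c => a ∈ c).filter fun c => Disjoint b c := by
    ext c; simp [and_assoc]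
  rw [e]
  omega

end

end Cfsg.Agent.SteinerCount.Sys22
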