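import Cfsg.Prelude.Def_Sporadic_a
import Cfsg.Agent.Lib.SteinerCount.Sys22

/-!
# The two strongly regular graphs of a Steiner system S(3, 6, 22)
-/

set_option autoImplicit false

namespace Cfsg.Agent.SteinerCount.Sys22

open Finset

variable {α : Type*} [Fintype α] [DecidableEq α] {B : Set (Finset α)} [Fintype B]

theorem card_sub (P : Finset α → Prop) [DecidablePred P] :
    ((univ : Finset B).filter fun c : B => P (c : Finset α)).card = ((blocks B).filter P).card := by
  refine card_bij (fun c _ => (c : Finset α)) ?_ ?_ ?_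
  · intro c hc
    simp only [mem_filter, mem_univ, true_and] at hc
    exact mem_filter.2 ⟨mem_blocks.2 c.2, hc⟩
  · intro c _ c' _ h
    exact Subtype.ext h
  · intro c hc
    obtain ⟨h1, h2⟩ := mem_filter.1 hc
    exact ⟨⟨c, mem_blocks.1 h1⟩, by simpa using h2, rfl⟩

theorem card_vertices (P : Option (α ⊕ B) → Prop) [DecidablePred P] :
    ((univ : Finset (Option (α ⊕ B))).filter P).card = (if P none then 1 else 0) +
      ((univ : Finset α).filter fun a => P (some (Sum.inl a))).card +
      ((univ : Finset B).filter fun c => P (some (Sum.inr c))).card := by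
  simp only [card_filter, Fintype.sum_option, Fintype.sum_sum_type, add_assoc]

section

variable (hα : Fintype.card α = 22) (hB : Cfsg.IsSteinerSystem 3 6 B)
include hα hB

theorem blockGraph_adj (b c : B) :
    (Cfsg.blockGraph B).Adj b c ↔ Disjoint (b : Finset α) (c : Finset α) := by
  simp only [Cfsg.blockGraph, SimpleGraph.fromRel_adj]
  refine ⟨fun h => h.2.elim id (fun h => h.symm), fun h => ⟨fun e => ?_, Or.inl h⟩⟩
  rw [e, disjoint_self] at h
  have := hB.1 (c : Finset α) c.2
  rw [show (c : Finset α) = ∅ from h] at this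
  simp at this

theorem card_block_vertices : Fintype.card B = 77 := by
  rw [← card_univ, ← card_blocks hα hB, ← filter_true_of_mem (s := blocks B) (p := fun _ => True)
    (fun _ _ => trivial), ← card_sub]
  simp

theorem blockGraph_srg [DecidableRel (Cfsg.blockGraph B).Adj] :
    (Cfsg.blockGraph B).IsSRGWith 77 16 0 4 := by
  classical
  have hcn : ∀ v w : B, Fintype.card ((Cfsg.blockGraph B).commonNeighbors v w) =
      ((blocks B).filter fun d => Disjoint (v : Finset α) d ∧ Disjoint (w : Finset α) d).card := by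
    intro v w
    rw [← card_sub]
    refine Fintype.card_of_subtype _ fun u => ?_
    simp only [mem_filter, mem_univ, true_and, SimpleGraph.mem_commonNeighbors,
      blockGraph_adj hα hB]
  refine ⟨card_block_vertices hα hB, fun v => ?_, fun v w h => ?_, fun v w hne h => ?_⟩
  · rw [← card_disj_one hα hB (mem_blocks.2 v.2), ← card_sub, ← SimpleGraph.card_neighborFinset_eq_degree]
    congr 1
    ext u
    simp [blockGraph_adj hα hB]
  · rw [hcn, card_disj_two hα hB (mem_blocks.2 v.2) (mem_blocks.2 w.2)
      (fun e => h.ne (Subtype.ext e)), if_pos ((blockGraph_adj hα hB v w).1 h)]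
  · rw [hcn, card_disj_two hα hB (mem_blocks.2 v.2) (mem_blocks.2 w.2)
      (fun e => hne (Subtype.ext e)), if_neg (fun h' => h ((blockGraph_adj hα hB v w).2 h'))]

theorem pb_adj_none (x : Option (α ⊕ B)) :
    (Cfsg.pointBlockGraph B).Adj none x ↔ ∃ a, x = some (Sum.inl a) := by
  simp only [Cfsg.pointBlockGraph, SimpleGraph.fromRel_adj]
  rcases x with _ | a | c <;> simp [Cfsg.pointBlockRel]

theorem pb_adj_point (a : α) (x : Option (α ⊕ B)) :
    (Cfsg.pointBlockGraph B).Adj (some (Sum.inl a)) x ↔
      x = none ∨ ∃ c : B, x = some (Sum.inr c) ∧ a ∈ (c : Finset α) := by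
  simp only [Cfsg.pointBlockGraph, SimpleGraph.fromRel_adj]
  rcases x with _ | a | c <;> simp [Cfsg.pointBlockRel]

theorem pb_adj_block (b : B) (x : Option (α ⊕ B)) :
    (Cfsg.pointBlockGraph B).Adj (some (Sum.inr b)) x ↔
      (∃ a, x = some (Sum.inl a) ∧ a ∈ (b : Finset α)) ∨
      ∃ c : B, x = some (Sum.inr c) ∧ Disjoint (b : Finset α) (c : Finset α) := by
  rcases x with _ | a | c
  · simp [Cfsg.pointBlockGraph, SimpleGraph.fromRel_adj, Cfsg.pointBlockRel]
  · simp [Cfsg.pointBlockGraph, SimpleGraph.fromRel_adj, Cfsg.pointBlockRel]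
  · have h := blockGraph_adj hα hB b c
    simp only [Cfsg.blockGraph, SimpleGraph.fromRel_adj] at h
    simpa [Cfsg.pointBlockGraph, SimpleGraph.fromRel_adj, Cfsg.pointBlockRel] using h

theorem pointBlockGraph_srg [DecidableRel (Cfsg.pointBlockGraph B).Adj] :
    (Cfsg.pointBlockGraph B).IsSRGWith 100 22 0 6 := by
  classical
  have hcn : ∀ v w, Fintype.card ((Cfsg.pointBlockGraph B).commonNeighbors v w) =
      ((univ : Finset (Option (α ⊕ B))).filter fun u =>
        (Cfsg.pointBlockGraph B).Adj v u ∧ (Cfsg.pointBlockGraph B).Adj w u).card := by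
    intro v w
    refine Fintype.card_of_subtype _ fun u => ?_
    simp [SimpleGraph.mem_commonNeighbors]
  have hsymm : ∀ v w, ((univ : Finset (Option (α ⊕ B))).filter fun u =>
        (Cfsg.pointBlockGraph B).Adj v u ∧ (Cfsg.pointBlockGraph B).Adj w u).card =
      ((univ : Finset (Option (α ⊕ B))).filter fun u =>
        (Cfsg.pointBlockGraph B).Adj w u ∧ (Cfsg.pointBlockGraph B).Adj v u).card := fun v w => by
    simp only [and_comm]
  have h6 : ∀ b : B, (b : Finset α).card = 6 := fun b => hB.1 _ b.2
  have cNP : ∀ a, ((univ : Finset (Option (α ⊕ B))).filter fun u =>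
      (Cfsg.pointBlockGraph B).Adj none u ∧
        (Cfsg.pointBlockGraph B).Adj (some (Sum.inl a)) u).card = 0 := by
    intro a; simp [card_vertices, pb_adj_none hα hB, pb_adj_point hα hB]
  have cNB : ∀ b : B, ((univ : Finset (Option (α ⊕ B))).filter fun u =>
      (Cfsg.pointBlockGraph B).Adj none u ∧
        (Cfsg.pointBlockGraph B).Adj (some (Sum.inr b)) u).card = 6 := by
    intro b; simp [card_vertices, pb_adj_none hα hB, pb_adj_block hα hB, h6 b]
  have cPP : ∀ a a' : α, a ≠ a' → ((univ : Finset (Option (α ⊕ B))).filter fun u =>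
      (Cfsg.pointBlockGraph B).Adj (some (Sum.inl a)) u ∧
        (Cfsg.pointBlockGraph B).Adj (some (Sum.inl a')) u).card = 6 := by
    intro a a' h
    simp [card_vertices, pb_adj_point hα hB, card_sub (fun c => a ∈ c ∧ a' ∈ c), lam_two hα hB h]
  have cPB : ∀ (a : α) (b : B), ((univ : Finset (Option (α ⊕ B))).filter fun u =>
      (Cfsg.pointBlockGraph B).Adj (some (Sum.inl a)) u ∧
        (Cfsg.pointBlockGraph B).Adj (some (Sum.inr b)) u).card =
      if a ∈ (b : Finset α) then 0 else 6 := by
    intro a b
    simp [card_vertices, pb_adj_point hα hB, pb_adj_block hα hB,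
      card_sub (fun c => a ∈ c ∧ Disjoint (b : Finset α) c)]
    split_ifs with ha
    · rw [card_eq_zero, Finset.eq_empty_iff_forall_notMem]
      intro c hc
      simp only [mem_filter] at hc
      exact Finset.disjoint_left.1 hc.2.2 ha hc.2.1
    · exact card_point_disj hα hB (mem_blocks.2 b.2) ha
  have cBB : ∀ b c : B, b ≠ c → ((univ : Finset (Option (α ⊕ B))).filter fun u =>
      (Cfsg.pointBlockGraph B).Adj (some (Sum.inr b)) u ∧
        (Cfsg.pointBlockGraph B).Adj (some (Sum.inr c)) u).card =
      if Disjoint (b : Finset α) (c : Finset α) then 0 else 6 := by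
    intro b c h
    have h2 := card_inter hα hB (mem_blocks.2 c.2) (mem_blocks.2 b.2) (fun e => h (Subtype.ext e))
    have hp : ((univ : Finset α).filter fun x => x ∈ (b : Finset α) ∧ x ∈ (c : Finset α)).card
        = ((b : Finset α) ∩ (c : Finset α)).card := by congr 1; ext x; simp
    simp [card_vertices, pb_adj_block hα hB, hp,
      card_sub (fun d => Disjoint (b : Finset α) d ∧ Disjoint (c : Finset α) d),
      card_disj_two hα hB (mem_blocks.2 b.2) (mem_blocks.2 c.2) (fun e => h (Subtype.ext e))]
    split_ifs with hd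
    · simp [disjoint_iff_inter_eq_empty.1 hd]
    · rcases h2 with h2 | h2
      · exact absurd (disjoint_iff_inter_eq_empty.2 (card_eq_zero.1 h2)) hd
      · omega
  refine ⟨?_, fun v => ?_, fun v w h => ?_, fun v w hne h => ?_⟩
  · simp [card_block_vertices hα hB, hα]
  · rw [← SimpleGraph.card_neighborFinset_eq_degree, SimpleGraph.neighborFinset_eq_filter,
      card_vertices]
    rcases v with _ | a | b
    · simp [pb_adj_none hα hB, hα]
    · simp [pb_adj_point hα hB, card_sub (fun c => a ∈ c), lam_one hα hB a]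
    · simp [pb_adj_block hα hB, card_sub (fun c => Disjoint (b : Finset α) c),
        card_disj_one hα hB (mem_blocks.2 b.2), h6 b]
  · rw [hcn]
    rcases v with _ | a | b <;> rcases w with _ | a' | c
    · exact absurd rfl h.ne
    · exact cNP a'
    · simp [pb_adj_none hα hB] at h
    · rw [hsymm]; exact cNP a
    · simp [pb_adj_point hα hB] at h
    · rw [cPB]; simp [pb_adj_point hα hB] at h; simp [h]
    · simp [pb_adj_block hα hB] at h
    · rw [hsymm, cPB]; simp [pb_adj_block hα hB] at h; simp [h]
    · rw [cBB b c (fun e => h.ne (by rw [e]))]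
      simp [pb_adj_block hα hB] at h; simp [h]
  · rw [hcn]
    rcases v with _ | a | b <;> rcases w with _ | a' | c
    · exact absurd rfl hne
    · exact absurd ((pb_adj_none hα hB _).2 ⟨a', rfl⟩) h
    · exact cNB c
    · exact absurd ((pb_adj_point hα hB a _).2 (Or.inl rfl)) h
    · exact cPP a a' (fun e => hne (by rw [e]))
    · rw [cPB, if_neg]
      exact fun ha => h ((pb_adj_point hα hB a _).2 (Or.inr ⟨c, rfl, ha⟩))
    · rw [hsymm]; exact cNB b
    · rw [hsymm, cPB, if_neg]
      exact fun ha => h ((pb_adj_block hα hB b _).2 (Or.inl ⟨a', rfl, ha⟩))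
    · rw [cBB b c (fun e => hne (by rw [e])), if_neg]
      exact fun hd => h ((pb_adj_block hα hB b _).2 (Or.inr ⟨c, rfl, hd⟩))

end

end Cfsg.Agent.SteinerCount.Sys22
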